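import Mathlib.RingTheory.Length
import Mathlib.RingTheory.Ideal.Colon
import Mathlib.RingTheory.LocalRing.MaximalIdeal.Basic
import Mathlib.RingTheory.Noetherian.Basic
import Mathlib.RingTheory.Ideal.Quotient.Operations
import Mathlib.RingTheory.Finiteness.Ideal
import Mathlib.Tactic.LinearCombination
import Mathlib.RingTheory.Ideal.Operations

/-! Colon ideals by `(x^N, y^N)` in a local ring with maximal ideal generated by a regular pair. -/

set_option autoImplicit false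

universe u

open IsLocalRing

namespace Groth.L13.RegTwo

variable {R : Type u} [CommRing R]

/-- the colength -/
noncomputable abbrev colen (K : Ideal R) : ℕ∞ := Module.length R (R ⧸ K)

theorem colen_mono {K K' : Ideal R} (h : K ≤ K') : colen K' ≤ colen K :=
  Module.length_le_of_surjective (Submodule.factor h) (Submodule.factor_surjective h)

theorem colen_step [IsLocalRing R] {K : Ideal R} {z : R} (hz : z ∉ K) (hm : ∀ r ∈ maximalIdeal R, r * z ∈ K) :
    colen K = colen (K ⊔ Ideal.span {z}) + 1 := by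
  let f : R ⧸ maximalIdeal R →ₗ[R] R ⧸ K :=
    (maximalIdeal R).liftQ (LinearMap.toSpanSingleton R _ (Submodule.Quotient.mk z)) fun r hr => by
      rw [LinearMap.mem_ker, LinearMap.toSpanSingleton_apply, ← Submodule.Quotient.mk_smul,
        Submodule.Quotient.mk_eq_zero]
      exact hm r hr
  have hf : Function.Injective f := by
    rw [← LinearMap.ker_eq_bot]
    refine Submodule.ker_liftQ_eq_bot _ _ _ fun r hr => ?_
    rw [LinearMap.mem_ker, LinearMap.toSpanSingleton_apply, ← Submodule.Quotient.mk_smul,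
      Submodule.Quotient.mk_eq_zero, smul_eq_mul] at hr
    by_contra hu
    obtain ⟨u, rfl⟩ := IsLocalRing.notMem_maximalIdeal.1 hu
    exact hz ((Ideal.unit_mul_mem_iff_mem K u.isUnit).1 hr)
  let g : R ⧸ K →ₗ[R] R ⧸ (K ⊔ Ideal.span {z}) := Submodule.factor le_sup_left
  have hg : Function.Surjective g := Submodule.factor_surjective _
  have hex : Function.Exact f g := by
    intro y
    obtain ⟨c, rfl⟩ := Submodule.Quotient.mk_surjective K y
    show Submodule.Quotient.mk (p := K ⊔ Ideal.span {z}) c = 0 ↔ _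
    rw [Submodule.Quotient.mk_eq_zero, Submodule.mem_sup]
    constructor
    · rintro ⟨k, hk, w, hw, rfl⟩
      obtain ⟨r, rfl⟩ := Ideal.mem_span_singleton'.1 hw
      refine ⟨Submodule.Quotient.mk r, ?_⟩
      show r • Submodule.Quotient.mk (p := K) z = _
      rw [← Submodule.Quotient.mk_smul, smul_eq_mul, Submodule.Quotient.eq]
      simpa using hk
    · rintro ⟨rb, hrb⟩
      obtain ⟨r, rfl⟩ := Submodule.Quotient.mk_surjective _ rb
      change r • Submodule.Quotient.mk (p := K) z = _ at hrb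
      rw [← Submodule.Quotient.mk_smul, smul_eq_mul, Submodule.Quotient.eq] at hrb
      exact ⟨c - r * z, by simpa using K.neg_mem hrb, r * z, Ideal.mem_span_singleton'.2 ⟨r, rfl⟩, sub_add_cancel _ _⟩
  have h1 : Module.length R (R ⧸ maximalIdeal R) = 1 := by
    rw [Module.length_eq_one_iff]
    exact (isSimpleModule_iff_isCoatom).2 (maximalIdeal.isMaximal R).out
  rw [colen, Module.length_eq_add_of_exact f g hf hg hex, h1, add_comm]

/-- a regular pair generating the maximal ideal -/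
structure Pair (R : Type u) [CommRing R] [IsLocalRing R] where
  x : R
  y : R
  span_eq : maximalIdeal R = Ideal.span {x} ⊔ Ideal.span {y}
  x_reg : ∀ r, x * r = 0 → r = 0
  y_reg : ∀ r, y * r ∈ Ideal.span {x} → r ∈ Ideal.span {x}

variable [IsLocalRing R] (P : Pair R)

/-- the ideal `(x^N, y^N)` -/
def Pair.q (N : ℕ) : Ideal R := Ideal.span {P.x ^ N} ⊔ Ideal.span {P.y ^ N}

theorem mem_q {N : ℕ} {c : R} : c ∈ P.q N ↔ ∃ u v, u * P.x ^ N + v * P.y ^ N = c := by
  rw [Pair.q, Submodule.mem_sup]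
  constructor
  · rintro ⟨s, hs, t, ht, rfl⟩
    obtain ⟨u, rfl⟩ := Ideal.mem_span_singleton'.1 hs
    obtain ⟨v, rfl⟩ := Ideal.mem_span_singleton'.1 ht
    exact ⟨u, v, rfl⟩
  · rintro ⟨u, v, rfl⟩
    exact ⟨_, Ideal.mem_span_singleton'.2 ⟨u, rfl⟩, _, Ideal.mem_span_singleton'.2 ⟨v, rfl⟩, rfl⟩

theorem x_cancel : ∀ (j : ℕ) {r s : R}, P.x ^ j * r = P.x ^ j * s → r = s
  | 0, r, s, h => by simpa using h
  | j + 1, r, s, h => x_cancel j (sub_eq_zero.1 (P.x_reg _ (by rw [mul_sub, ← mul_assoc, ← mul_assoc, ← pow_succ', h, sub_self])))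

theorem y_pow_reg : ∀ (N : ℕ) {r : R}, P.y ^ N * r ∈ Ideal.span {P.x} → r ∈ Ideal.span {P.x}
  | 0, r, h => by simpa using h
  | N + 1, r, h => y_pow_reg N (P.y_reg _ (by rwa [← mul_assoc, ← pow_succ']))

theorem y_pow_reg_pow : ∀ (j N : ℕ) {r : R}, P.y ^ N * r ∈ Ideal.span {P.x ^ j} → r ∈ Ideal.span {P.x ^ j}
  | 0, N, r, _ => by simp
  | j + 1, N, r, h => by
    obtain ⟨s, hs⟩ := Ideal.mem_span_singleton'.1 h
    obtain ⟨r', rfl⟩ := Ideal.mem_span_singleton'.1
      (y_pow_reg P N (Ideal.mem_span_singleton'.2 ⟨s * P.x ^ j, by rw [← hs, pow_succ, mul_assoc]⟩ :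
        P.y ^ N * r ∈ Ideal.span {P.x}))
    have h2 : P.y ^ N * r' = s * P.x ^ j := x_cancel P 1 (by rw [pow_one]; linear_combination (-1 : R) * hs)
    obtain ⟨t, rfl⟩ := Ideal.mem_span_singleton'.1 (y_pow_reg_pow j N (Ideal.mem_span_singleton'.2 ⟨s, h2.symm⟩))
    exact Ideal.mem_span_singleton'.2 ⟨t, by ring⟩

theorem maximalIdeal_pow_le_q : ∀ N : ℕ, maximalIdeal R ^ (N + N) ≤ P.q N := fun N => by
  rw [P.span_eq, Pair.q, ← Ideal.span_singleton_pow, ← Ideal.span_singleton_pow]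
  exact Ideal.sup_pow_add_le_pow_sup_pow

/-- the socle of `R/(x^N,y^N)` -/
theorem socle {N : ℕ} {c : R} (h : ∀ r ∈ maximalIdeal R, r * c ∈ P.q (N + 1)) :
    ∃ r, c - r * (P.x ^ N * P.y ^ N) ∈ P.q (N + 1) := by
  have hx : P.x ∈ maximalIdeal R := P.span_eq ▸ Ideal.mem_sup_left (Ideal.mem_span_singleton_self _)
  have hy : P.y ∈ maximalIdeal R := P.span_eq ▸ Ideal.mem_sup_right (Ideal.mem_span_singleton_self _)
  obtain ⟨u, v, huv⟩ := (mem_q P).1 (h _ hx)
  obtain ⟨v', rfl⟩ := Ideal.mem_span_singleton'.1 (y_pow_reg P (N + 1)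
    (Ideal.mem_span_singleton'.2 ⟨c - u * P.x ^ N, by linear_combination (-1 : R) * huv⟩ :
      P.y ^ (N + 1) * v ∈ Ideal.span {P.x}))
  have hc : c = u * P.x ^ N + v' * P.y ^ (N + 1) :=
    x_cancel P 1 (by linear_combination (-1 : R) * huv)
  obtain ⟨p, r, hpr⟩ := (mem_q P).1 (h _ hy)
  obtain ⟨r', hr'⟩ := Ideal.mem_span_singleton'.1 (y_pow_reg_pow P N (N + 1)
    (Ideal.mem_span_singleton'.2 ⟨P.y * u - p * P.x, by rw [hc] at hpr; linear_combination (-1 : R) * hpr⟩ :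
      P.y ^ (N + 1) * (r - P.y * v') ∈ Ideal.span {P.x ^ N}))
  have h3 : P.y * (u - P.y ^ N * r') = p * P.x :=
    x_cancel P N (by rw [hc] at hpr; linear_combination (-1 : R) * hpr - P.y ^ (N + 1) * hr')
  obtain ⟨t, ht⟩ := Ideal.mem_span_singleton'.1 (P.y_reg _ (Ideal.mem_span_singleton'.2 ⟨p, h3.symm⟩))
  exact ⟨r', (mem_q P).2 ⟨t, v', by rw [hc]; linear_combination P.x ^ N * ht⟩⟩

theorem mul_socle_mem {N : ℕ} {r : R} (hr : r ∈ maximalIdeal R) : r * (P.x ^ N * P.y ^ N) ∈ P.q (N + 1) := by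
  rw [P.span_eq, Submodule.mem_sup] at hr
  obtain ⟨s, hs, t, ht, rfl⟩ := hr
  obtain ⟨u, rfl⟩ := Ideal.mem_span_singleton'.1 hs
  obtain ⟨v, rfl⟩ := Ideal.mem_span_singleton'.1 ht
  exact (mem_q P).2 ⟨u * P.y ^ N, v * P.x ^ N, by ring⟩

theorem mem_colon' {q K : Ideal R} {c : R} : c ∈ q.colon (K : Set R) ↔ ∀ k ∈ K, c * k ∈ q := by
  simp [Submodule.mem_colon]

theorem colen_colon_step {N : ℕ} {K : Ideal R} {z : R} (hm : ∀ r ∈ maximalIdeal R, r * z ∈ K) :
    colen ((P.q (N + 1)).colon ((K ⊔ Ideal.span {z} : Ideal R) : Set R)) ≤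
      colen ((P.q (N + 1)).colon (K : Set R)) + 1 := by
  set q := P.q (N + 1)
  set A := q.colon ((K ⊔ Ideal.span {z} : Ideal R) : Set R) with hA
  set B := q.colon (K : Set R) with hB
  have hAB : A ≤ B := fun c hc => mem_colon'.2 fun k hk => mem_colon'.1 hc k (Ideal.mem_sup_left hk)
  have hzA : ∀ {c}, c ∈ B → c * z ∈ q → c ∈ A := fun {c} hc hcz => mem_colon'.2 fun k hk => by
    obtain ⟨k₁, hk₁, k₂, hk₂, rfl⟩ := Submodule.mem_sup.1 hk
    obtain ⟨r, rfl⟩ := Ideal.mem_span_singleton'.1 hk₂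
    rw [mul_add, show c * (r * z) = r * (c * z) by ring]
    exact add_mem (mem_colon'.1 hc _ hk₁) (q.mul_mem_left r hcz)
  by_cases hBA : B ≤ A
  · rw [le_antisymm hAB hBA]; exact le_self_add
  obtain ⟨c, hcB, hcA⟩ := SetLike.not_le_iff_exists.1 hBA
  have hsoc : ∀ {c}, c ∈ B → ∀ r ∈ maximalIdeal R, r * (c * z) ∈ q := fun {c} hc r hr => by
    rw [mul_left_comm]; exact mem_colon'.1 hc _ (hm r hr)
  obtain ⟨r₀, hr₀⟩ := socle P (hsoc hcB)
  have hu : IsUnit r₀ := by
    by_contra hu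
    exact hcA (hzA hcB ((q.sub_mem_iff_left (mul_socle_mem P ((mem_maximalIdeal r₀).2 hu))).1 hr₀))
  obtain ⟨u, rfl⟩ := hu
  have hmc : ∀ r ∈ maximalIdeal R, r * c ∈ A := fun r hr =>
    hzA (B.mul_mem_left r hcB) (by rw [mul_assoc]; exact hsoc hcB r hr)
  rw [colen_step hcA hmc]
  refine add_le_add (colen_mono fun d hd => ?_) le_rfl
  -- `B ≤ A + (c)`
  obtain ⟨r, hr⟩ := socle P (hsoc hd)
  have h2 : d - r * ↑u⁻¹ * c ∈ A := hzA (B.sub_mem hd (B.mul_mem_left _ hcB)) (by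
    have h3 := q.sub_mem hr (q.mul_mem_left (r * ↑u⁻¹) hr₀)
    have e : d * z - r * (P.x ^ N * P.y ^ N) - r * ↑u⁻¹ * (c * z - ↑u * (P.x ^ N * P.y ^ N)) =
        (d - r * ↑u⁻¹ * c) * z := by
      linear_combination (r * (P.x ^ N * P.y ^ N)) * u.inv_mul
    rwa [e] at h3)
  exact Submodule.mem_sup.2 ⟨_, h2, _, Ideal.mem_span_singleton'.2 ⟨r * ↑u⁻¹, rfl⟩, sub_add_cancel _ _⟩

theorem exists_socle_elt {K K' : Ideal R} {n : ℕ} (hn : maximalIdeal R ^ n ≤ K) (h : ¬ K' ≤ K) :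
    ∃ z ∈ K', z ∉ K ∧ ∀ r ∈ maximalIdeal R, r * z ∈ K := by
  induction n generalizing K with
  | zero =>
    refine absurd (fun w _ => ?_) h
    have h1 : (1 : R) ∈ K := hn (by simp)
    simpa using K.mul_mem_left w h1
  | succ n ih =>
    let K₁ : Ideal R := K.colon (maximalIdeal R : Set R)
    have hle : K ≤ K₁ := fun k hk => mem_colon'.2 fun r _ => K.mul_mem_right r hk
    by_cases h1 : K' ≤ K₁
    · obtain ⟨z, hz, hzK⟩ := SetLike.not_le_iff_exists.1 h
      exact ⟨z, hz, hzK, fun r hr => by rw [mul_comm]; exact mem_colon'.1 (h1 hz) r hr⟩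
    have hn1 : maximalIdeal R ^ n ≤ K₁ := fun w hw => mem_colon'.2 fun r hr =>
      hn (pow_succ (maximalIdeal R) n ▸ Ideal.mul_mem_mul hw hr)
    obtain ⟨z, hz, hzK₁, hzm⟩ := ih hn1 h1
    obtain ⟨r, hr, hrz⟩ : ∃ r ∈ maximalIdeal R, z * r ∉ K := by
      by_contra hall
      push Not at hall
      exact hzK₁ (mem_colon'.2 hall)
    refine ⟨z * r, K'.mul_mem_right r hz, hrz, fun s hs => ?_⟩
    rw [← mul_assoc]
    exact mem_colon'.1 (hzm s hs) r hr

theorem colon_colen_le [IsNoetherianRing R] {N : ℕ} (K : Ideal R) :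
    P.q (N + 1) ≤ K → ∀ K' : Ideal R, K ≤ K' →
      colen ((P.q (N + 1)).colon (K' : Set R)) + colen K' ≤ colen ((P.q (N + 1)).colon (K : Set R)) + colen K := by
  refine IsNoetherian.induction (P := fun K : Ideal R => P.q (N + 1) ≤ K → ∀ K' : Ideal R, K ≤ K' →
    colen ((P.q (N + 1)).colon (K' : Set R)) + colen K' ≤ colen ((P.q (N + 1)).colon (K : Set R)) + colen K)
    (fun K ih hqK K' hKK' => ?_) K
  by_cases h : K' ≤ K
  · rw [le_antisymm hKK' h]
  obtain ⟨z, hzK', hzK, hm⟩ := exists_socle_elt ((maximalIdeal_pow_le_q P (N + 1)).trans hqK) h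
  have hlt : K < K ⊔ Ideal.span {z} := left_lt_sup.2 fun h => hzK (h (Ideal.mem_span_singleton_self z))
  refine (ih _ hlt (hqK.trans hlt.le) K' (sup_le hKK' ((Ideal.span_singleton_le_iff_mem _).2 hzK'))).trans ?_
  rw [colen_step hzK hm, ← add_assoc]
  calc colen ((P.q (N + 1)).colon ((K ⊔ Ideal.span {z} : Ideal R) : Set R)) + colen (K ⊔ Ideal.span {z})
      ≤ colen ((P.q (N + 1)).colon (K : Set R)) + 1 + colen (K ⊔ Ideal.span {z}) :=
        add_le_add (colen_colon_step P hm) le_rfl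
    _ = _ := by rw [add_right_comm]

theorem colon_self (q : Ideal R) : q.colon (q : Set R) = ⊤ :=
  top_unique fun c _ => mem_colon'.2 fun k hk => q.mul_mem_left c hk

theorem colon_top (q : Ideal R) : q.colon ((⊤ : Ideal R) : Set R) = q :=
  le_antisymm (fun c hc => by simpa using mem_colon'.1 hc 1 trivial) fun c hc => mem_colon'.2 fun k _ => q.mul_mem_right k hc

/-- duality of colengths -/
theorem colen_colon_add [IsNoetherianRing R] {N : ℕ} {K : Ideal R} (hK : P.q (N + 1) ≤ K) :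
    colen ((P.q (N + 1)).colon (K : Set R)) + colen K = colen (P.q (N + 1)) := by
  have h0 : colen (⊤ : Ideal R) = 0 := Module.length_eq_zero_iff.2 (Submodule.Quotient.subsingleton_iff.2 rfl)
  refine le_antisymm ?_ ?_
  · have h := colon_colen_le P (P.q (N + 1)) le_rfl K hK
    rwa [colon_self, h0, zero_add] at h
  · have h := colon_colen_le P K hK ⊤ le_top
    rwa [colon_top, h0, add_zero] at h

theorem colen_q_lt_top [IsNoetherianRing R] (N : ℕ) : colen (P.q (N + 1)) < ⊤ := by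
  suffices H : ∀ K : Ideal R, P.q (N + 1) ≤ K → colen K < ⊤ from H _ le_rfl
  refine IsNoetherian.induction fun (K : Ideal R) ih hqK => ?_
  by_cases h : (⊤ : Ideal R) ≤ K
  · rw [colen, Module.length_eq_zero_iff.2 (Submodule.Quotient.subsingleton_iff.2 (top_unique h))]
    exact ENat.top_pos
  obtain ⟨z, -, hzK, hm⟩ := exists_socle_elt ((maximalIdeal_pow_le_q P (N + 1)).trans hqK) h
  have hlt : K < K ⊔ Ideal.span {z} := left_lt_sup.2 fun h => hzK (h (Ideal.mem_span_singleton_self z))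
  rw [colen_step hzK hm]
  exact ENat.add_lt_top.2 ⟨ih _ hlt (hqK.trans hlt.le), ENat.one_lt_top⟩

theorem colon_colon [IsNoetherianRing R] {N : ℕ} {K : Ideal R} (hK : P.q (N + 1) ≤ K) :
    (P.q (N + 1)).colon (((P.q (N + 1)).colon (K : Set R) : Ideal R) : Set R) = K := by
  set q := P.q (N + 1)
  set C := q.colon (K : Set R) with hC
  have hle : K ≤ q.colon (C : Set R) := fun k hk => mem_colon'.2 fun c hc => by
    rw [mul_comm]; exact mem_colon'.1 hc k hk
  have hqC : q ≤ C := fun c hc => mem_colon'.2 fun k _ => q.mul_mem_right k hc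
  have h1 := colen_colon_add P hK
  have h2 := colen_colon_add P hqC
  rw [← h1, add_comm (colen C)] at h2
  have hfin : colen C < ⊤ := lt_of_le_of_lt (colen_mono hqC) (colen_q_lt_top P N)
  have heq : colen (q.colon (C : Set R)) = colen K := WithTop.add_right_cancel hfin.ne h2
  by_contra hne
  obtain ⟨z, hz, hzK, hm⟩ := exists_socle_elt ((maximalIdeal_pow_le_q P (N + 1)).trans hK)
    (K' := q.colon (C : Set R)) fun h => hne (le_antisymm h hle)
  have h4 := colen_step hzK hm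
  have h5 : colen (q.colon (C : Set R)) ≤ colen (K ⊔ Ideal.span {z}) :=
    colen_mono (sup_le hle ((Ideal.span_singleton_le_iff_mem _).2 hz))
  rw [heq, h4] at h5
  exact absurd ((ENat.add_one_le_iff (lt_of_le_of_lt
    (colen_mono (le_trans hK le_sup_left)) (colen_q_lt_top P N)).ne).1 h5) (lt_irrefl _)

end Groth.L13.RegTwo
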