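import Groth.Agent.L13.RegTwo.Colon
import Groth.Agent.L04.RegularPd
import Groth.Agent.L01.Regular
import Mathlib.RingTheory.LocalRing.Quotient
import Mathlib.RingTheory.FiniteLength
import Mathlib.LinearAlgebra.Dimension.Localization
import Mathlib.LinearAlgebra.StdBasis
import Mathlib.Algebra.Category.ModuleCat.Projective

/-! Lengths of homomorphism modules over two dimensional regular local rings. -/

set_option autoImplicit false

universe u

open IsLocalRing
open scoped Pointwise

namespace Groth.L13.RegTwo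

section Core

variable {R : Type u} [CommRing R] [IsLocalRing R] [IsNoetherianRing R]
variable (P : Pair R) (N : ℕ) {m r : ℕ} (g : (Fin m → R) →ₗ[R] R) (φ : (Fin r → R) →ₗ[R] (Fin m → R))
variable (hφ : Function.Injective φ) (hex : LinearMap.range φ = LinearMap.ker g)

local notation "A" => P.x ^ (N + 1)
local notation "B" => P.y ^ (N + 1)

include hex in
omit [IsNoetherianRing R] in
theorem exists_lift {z : Fin m → R} (hz : g z = 0) : ∃ w, φ w = z := by
  have : z ∈ LinearMap.range φ := by rw [hex]; exact hz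
  exact this

omit [IsNoetherianRing R] in
theorem dvd_of_cross {X Y : R} (h : B * X = A * Y) : ∃ z, X = A * z := by
  obtain ⟨z, hz⟩ := Ideal.mem_span_singleton'.1
    (y_pow_reg_pow P (N + 1) (N + 1) (Ideal.mem_span_singleton'.2 ⟨Y, (mul_comm Y A).trans h.symm⟩) :
      X ∈ Ideal.span {A})
  exact ⟨z, hz.symm.trans (mul_comm z A)⟩

variable {g φ} {u v : Fin m → R} {w : Fin r → R}

include hex in
omit [IsNoetherianRing R] in
theorem g_comp (z : Fin r → R) : g (φ z) = 0 :=
  LinearMap.mem_ker.1 (hex ▸ LinearMap.mem_range_self φ z)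

omit [IsNoetherianRing R] in
theorem phi_pairing_mem (hw : φ w = B • u - A • v) (ν : (Fin m → R) →ₗ[R] R) : ν (φ w) ∈ P.q (N + 1) :=
  (mem_q P).2 ⟨- ν v, ν u, by rw [hw, map_sub, map_smul, map_smul, smul_eq_mul, smul_eq_mul]; ring⟩

include hφ hex in
omit [IsNoetherianRing R] in
theorem pairing_inj (hu : g u = A) (hv : g v = B) (hw : φ w = B • u - A • v)
    {l : (Fin r → R) →ₗ[R] R} (hl : l w ∈ P.q (N + 1)) : ∃ ν : (Fin m → R) →ₗ[R] R, l = ν ∘ₗ φ := by
  obtain ⟨s, t, hst⟩ := (mem_q P).1 hl
  let gi : Fin m → R := fun i => g (Pi.single i 1)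
  choose wa hwa using fun i => exists_lift g φ hex (z := A • Pi.single i 1 - gi i • u)
    (by simp [gi, hu, mul_comm])
  choose wb hwb using fun i => exists_lift g φ hex (z := B • Pi.single i 1 - gi i • v)
    (by simp [gi, hv, mul_comm])
  have hrel : ∀ i, B • wa i - A • wb i = -(gi i • w) := fun i => hφ (by
    simp only [map_sub, map_smul, map_neg, hwa, hwb, hw, smul_sub, smul_smul]
    rw [mul_comm B A, mul_comm (gi i) B, mul_comm (gi i) A]
    abel)
  have hdiv : ∀ i, ∃ h, t * gi i + l (wa i) = A * h := fun i => dvd_of_cross P N (Y := -s * gi i + l (wb i)) (by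
    have h1 := congrArg l (hrel i)
    simp only [map_sub, map_smul, map_neg, smul_eq_mul] at h1
    linear_combination h1 + gi i * hst)
  choose h hh using hdiv
  refine ⟨Fintype.linearCombination R h, LinearMap.ext fun z => x_cancel P (N + 1) ?_⟩
  have hsum : g (φ z) = ∑ i, φ z i * gi i := by
    conv_lhs => rw [show φ z = ∑ i, φ z i • (Pi.single i 1 : Fin m → R) from pi_eq_sum_univ' _]
    simp [gi]
  have hz : ∑ i, φ z i • wa i = A • z := hφ (by
    simp only [map_sum, map_smul, hwa, smul_sub, Finset.sum_sub_distrib, smul_comm _ A, ← Finset.smul_sum,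
      smul_smul, ← Finset.sum_smul, ← hsum, g_comp hex, zero_smul, sub_zero]
    rw [← pi_eq_sum_univ']; rfl)
  calc A * l z = ∑ i, φ z i * l (wa i) := by
        have h2 := congrArg l hz
        simp only [map_sum, map_smul, smul_eq_mul] at h2
        exact h2.symm
    _ = t * g (φ z) + ∑ i, φ z i * l (wa i) := by rw [g_comp hex]; ring
    _ = A * (Fintype.linearCombination R h ∘ₗ φ) z := by
        rw [hsum, LinearMap.comp_apply, Fintype.linearCombination_apply, Finset.mul_sum, Finset.mul_sum,
          ← Finset.sum_add_distrib]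
        refine Finset.sum_congr rfl fun i _ => ?_
        rw [smul_eq_mul]
        linear_combination (φ z i) * hh i

/-- the ideal of values of functionals at `w` -/
def W (w : Fin r → R) : Ideal R := LinearMap.range (LinearMap.applyₗ w : ((Fin r → R) →ₗ[R] R) →ₗ[R] R)

omit [IsLocalRing R] [IsNoetherianRing R] in
theorem mem_W {w : Fin r → R} {c : R} : c ∈ W w ↔ ∃ l : (Fin r → R) →ₗ[R] R, l w = c := Iff.rfl

include hφ hex in
theorem colon_range (hu : g u = A) (hv : g v = B) (hw : φ w = B • u - A • v) (hI : P.q (N + 1) ≤ LinearMap.range g) :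
    (P.q (N + 1)).colon ((LinearMap.range g : Ideal R) : Set R) = W w ⊔ P.q (N + 1) := by
  set q := P.q (N + 1)
  have h1 : q.colon ((W w ⊔ q : Ideal R) : Set R) = (LinearMap.range g : Ideal R) := by
    refine le_antisymm (fun d hd => ?_) ?_
    · have hd' : ∀ i, d * w i ∈ q := fun i =>
        mem_colon'.1 hd _ (Ideal.mem_sup_left (mem_W.2 ⟨LinearMap.proj i, rfl⟩))
      choose wx wy hwxy using fun i => (mem_q P).1 (hd' i)
      have hdw : d • w = A • wx + B • wy := funext fun i => by
        simp only [Pi.smul_apply, Pi.add_apply, smul_eq_mul]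
        linear_combination (-1 : R) * hwxy i
      have hphi := congrArg φ hdw
      simp only [map_add, map_smul, hw] at hphi
      have hX : ∀ i, ∃ z, d * u i - φ wy i = A * z := fun i => dvd_of_cross P N (Y := d * v i + φ wx i) (by
        have := congrFun hphi i
        simp only [Pi.smul_apply, Pi.add_apply, Pi.sub_apply, smul_eq_mul] at this
        linear_combination this)
      choose z hz using hX
      have hz' : d • u - φ wy = A • z := funext fun i => by simpa using hz i
      have h2 := congrArg g hz'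
      simp only [map_sub, map_smul, g_comp hex, sub_zero, hu, smul_eq_mul] at h2
      exact ⟨z, (x_cancel P (N + 1) (by rw [mul_comm A d, h2])).symm⟩
    · rintro _ ⟨e, rfl⟩
      refine mem_colon'.2 fun c hc => ?_
      obtain ⟨c₁, hc₁, c₂, hc₂, rfl⟩ := Submodule.mem_sup.1 hc
      rw [mul_add]
      refine add_mem ?_ (q.mul_mem_left _ hc₂)
      obtain ⟨l, rfl⟩ := mem_W.1 hc₁
      obtain ⟨wa, hwa⟩ := exists_lift g φ hex (z := A • e - g e • u) (by simp [hu, mul_comm])
      obtain ⟨wb, hwb⟩ := exists_lift g φ hex (z := B • e - g e • v) (by simp [hv, mul_comm])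
      have hrel : g e • w = A • wb - B • wa := hφ (by
        simp only [map_sub, map_smul, hwa, hwb, hw, smul_sub, smul_smul]
        rw [mul_comm B A, mul_comm (g e) B, mul_comm (g e) A]
        abel)
      have h2 := congrArg l hrel
      simp only [map_smul, map_sub, smul_eq_mul] at h2
      exact (mem_q P).2 ⟨l wb, - l wa, by linear_combination (-1 : R) * h2⟩
  rw [← h1, colon_colon P le_sup_right]

include hφ hex in
theorem length_hom (J : Ideal R) (hu : g u = A) (hv : g v = B) (hw : φ w = B • u - A • v)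
    (hI : P.q (N + 1) ≤ LinearMap.range g) (hr : r + 1 = m) (hJ : colen J < ⊤) :
    Module.length R (↥(LinearMap.range g : Ideal R) →ₗ[R] R ⧸ J) +
        colen ((LinearMap.range g : Ideal R).colon (J : Set R)) =
      colen J + colen (LinearMap.range g : Ideal R) := by
  set I : Ideal R := LinearMap.range g with hIdef
  set q := P.q (N + 1)
  set C := q.colon (I : Set R) with hC
  have hCW : C = W w ⊔ q := colon_range P N hφ hex hu hv hw hI
  let K := J * C ⊔ q
  let D := (Fin r → R) →ₗ[R] R
  let G' := (Fin r → R) →ₗ[R] R ⧸ J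
  let F' := (Fin m → R) →ₗ[R] R ⧸ J
  let gI : (Fin m → R) →ₗ[R] I := g.rangeRestrict
  let Φ : F' →ₗ[R] G' := LinearMap.lcomp R (R ⧸ J) φ
  let Γ : (I →ₗ[R] R ⧸ J) →ₗ[R] F' := LinearMap.lcomp R (R ⧸ J) gI
  have hΓ : Function.Injective Γ := fun a b h => LinearMap.ext fun i => by
    obtain ⟨z, rfl⟩ := g.surjective_rangeRestrict i
    exact LinearMap.congr_fun h z
  have hexΓ : Function.Exact Γ Φ := by
    have h1 : Function.Exact φ gI := fun z => by
      rw [← Subtype.val_inj]
      show g z = 0 ↔ _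
      exact ⟨fun h => exists_lift g φ hex h, fun ⟨a, e⟩ => e ▸ g_comp hex a⟩
    exact LinearMap.exact_lcomp_of_exact_of_surjective _ h1 g.surjective_rangeRestrict
  let π : D →ₗ[R] G' := LinearMap.llcomp R (Fin r → R) R (R ⧸ J) (Submodule.mkQ J)
  have hπ : Function.Surjective π := fun l => by
    obtain ⟨c, hc⟩ := (Submodule.mkQ_surjective J).comp_left (fun i : Fin r => l (Pi.single i 1))
    refine ⟨Fintype.linearCombination R c, (Pi.basisFun R (Fin r)).ext fun i => ?_⟩
    show Submodule.mkQ J (Fintype.linearCombination R c (Pi.basisFun R (Fin r) i)) = _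
    rw [Pi.basisFun_apply, Fintype.linearCombination_apply_single, one_smul]
    exact congrFun hc i
  let Q := G' ⧸ LinearMap.range Φ
  let Ψ : D →ₗ[R] R ⧸ K := (Submodule.mkQ K) ∘ₗ LinearMap.applyₗ w
  let Ψ' : D →ₗ[R] Q := (LinearMap.range Φ).mkQ ∘ₗ π
  have hker : LinearMap.ker Ψ' = LinearMap.ker Ψ := by
    ext l
    rw [LinearMap.mem_ker, LinearMap.mem_ker]
    refine (Submodule.Quotient.mk_eq_zero (LinearMap.range Φ) (x := π l)).trans
      (Iff.trans ?_ (Submodule.Quotient.mk_eq_zero K (x := l w)).symm)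
    constructor
    · rintro ⟨νb, hν⟩
      obtain ⟨c, hc⟩ := (Submodule.mkQ_surjective J).comp_left (fun i : Fin m => νb (Pi.single i 1))
      let ν : (Fin m → R) →ₗ[R] R := Fintype.linearCombination R c
      have hνb : (Submodule.mkQ J) ∘ₗ ν = νb := (Pi.basisFun R (Fin m)).ext fun i => by
        simpa [ν, Fintype.linearCombination_apply_single] using congrFun hc i
      have hμ : ∀ z, (l - ν ∘ₗ φ) z ∈ J := fun z => by
        rw [← Submodule.Quotient.mk_eq_zero]
        have h1 : νb (φ z) = Submodule.Quotient.mk (l z) := LinearMap.congr_fun hν z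
        rw [← hνb] at h1
        rw [LinearMap.sub_apply, Submodule.Quotient.mk_sub, LinearMap.comp_apply]
        exact sub_eq_zero.2 h1.symm
      have h2 : (l - ν ∘ₗ φ) w ∈ J * C := by
        nth_rewrite 1 [pi_eq_sum_univ' w]
        rw [map_sum]
        refine sum_mem fun i _ => ?_
        rw [map_smul, smul_eq_mul]
        exact Ideal.mul_mem_mul_rev (hμ _) (hCW ▸ Ideal.mem_sup_left (mem_W.2 ⟨LinearMap.proj i, rfl⟩))
      have h3 : l w = (l - ν ∘ₗ φ) w + ν (φ w) := by rw [LinearMap.sub_apply, LinearMap.comp_apply, sub_add_cancel]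
      rw [h3]
      exact add_mem (Ideal.mem_sup_left h2) (Ideal.mem_sup_right (phi_pairing_mem P N hw ν))
    · intro hl
      have hK : K ≤ Submodule.map (LinearMap.applyₗ w : D →ₗ[R] R) (LinearMap.ker π) ⊔ q := by
        refine sup_le (Ideal.mul_le.2 fun j hj c hc => ?_) le_sup_right
        rw [hCW] at hc
        obtain ⟨c₁, hc₁, c₂, hc₂, rfl⟩ := Submodule.mem_sup.1 hc
        obtain ⟨l', rfl⟩ := mem_W.1 hc₁
        rw [mul_add]
        refine add_mem (Submodule.mem_sup_left ⟨j • l', ?_, ?_⟩) (Submodule.mem_sup_right (q.mul_mem_left j hc₂))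
        · refine LinearMap.mem_ker.2 (LinearMap.ext fun z => ?_)
          show Submodule.Quotient.mk ((j • l') z) = (0 : R ⧸ J)
          rw [Submodule.Quotient.mk_eq_zero, LinearMap.smul_apply, smul_eq_mul]
          exact J.mul_mem_right _ hj
        · simp
      obtain ⟨_, ⟨μ, hμ, rfl⟩, b, hb, hab⟩ := Submodule.mem_sup.1 (hK hl)
      obtain ⟨ν, hν⟩ := pairing_inj P N hφ hex hu hv hw (l := l - μ) (by
        have : (l - μ) w = b := by
          rw [LinearMap.sub_apply, ← hab]; simp
        rw [this]; exact hb)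
      refine ⟨Submodule.mkQ J ∘ₗ ν, ?_⟩
      have h1 : π l = π (l - μ) := by rw [map_sub, LinearMap.mem_ker.1 hμ, sub_zero]
      rw [h1, hν]
      rfl
  have hQ : Module.length R Q + colen C = colen K := by
    have hS : Function.Surjective Ψ' := (Submodule.mkQ_surjective _).comp hπ
    let e : Q ≃ₗ[R] LinearMap.range Ψ :=
      (Ψ'.quotKerEquivOfSurjective hS).symm ≪≫ₗ Submodule.quotEquivOfEq _ _ hker ≪≫ₗ Ψ.quotKerEquivRange
    have hKC : K ≤ C := sup_le Ideal.mul_le_right (hCW ▸ le_sup_right)
    rw [e.length_eq]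
    refine (Module.length_eq_add_of_exact (LinearMap.range Ψ).subtype (Submodule.factor hKC)
      (Submodule.subtype_injective _) (Submodule.factor_surjective hKC) fun y => ?_).symm
    obtain ⟨c, rfl⟩ := Submodule.Quotient.mk_surjective K y
    show Submodule.Quotient.mk (p := C) c = 0 ↔ _
    rw [Submodule.Quotient.mk_eq_zero]
    constructor
    · intro hc
      rw [hCW] at hc
      obtain ⟨c₁, hc₁, c₂, hc₂, rfl⟩ := Submodule.mem_sup.1 hc
      obtain ⟨l, rfl⟩ := mem_W.1 hc₁
      refine ⟨⟨Submodule.Quotient.mk (l w), l, rfl⟩, ?_⟩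
      show Submodule.Quotient.mk (l w) = Submodule.Quotient.mk (p := K) (l w + c₂)
      rw [Submodule.Quotient.eq, sub_add_cancel_left]
      exact Ideal.mem_sup_right (q.neg_mem hc₂)
    · rintro ⟨⟨_, l, rfl⟩, hl⟩
      change Submodule.Quotient.mk (p := K) (l w) = Submodule.Quotient.mk c at hl
      rw [Submodule.Quotient.eq] at hl
      have : c = l w - (l w - c) := by ring
      rw [this]
      exact C.sub_mem (hCW ▸ Ideal.mem_sup_left (mem_W.2 ⟨l, rfl⟩)) (hKC hl)
  have hqC : q ≤ C := hCW ▸ le_sup_right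
  have hcolon : q.colon (K : Set R) = I.colon (J : Set R) := by
    ext d
    rw [mem_colon', mem_colon']
    constructor
    · intro hd j hj
      rw [← colon_colon P hI, mem_colon']
      intro c hc
      rw [mul_assoc]
      exact hd _ (Ideal.mem_sup_left (Ideal.mul_mem_mul hj hc))
    · intro hd k hk
      obtain ⟨a, ha, b, hb, rfl⟩ := Submodule.mem_sup.1 hk
      rw [mul_add]
      refine add_mem ?_ (q.mul_mem_left _ hb)
      clear hk
      refine Submodule.mul_induction_on ha (fun j hj c hc => ?_) fun x y hx hy => by rw [mul_add]; exact add_mem hx hy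
      rw [← mul_assoc, mul_comm]
      exact mem_colon'.1 hc _ (hd j hj)
  have e1 := colen_colon_add P hI
  have e2 := colen_colon_add P (show q ≤ K from le_sup_right)
  rw [hcolon] at e2
  -- lengths of hom modules
  have hF : Module.length R F' = m * colen J := by
    rw [((Pi.basisFun R (Fin m)).constr R).symm.length_eq]; simp [Module.length_pi, ENat.card_eq_coe_fintype_card]
  have hG : Module.length R G' = r * colen J := by
    rw [((Pi.basisFun R (Fin r)).constr R).symm.length_eq]; simp [Module.length_pi, ENat.card_eq_coe_fintype_card]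
  let ΦR : F' →ₗ[R] LinearMap.range Φ := Φ.rangeRestrict
  have hexR : Function.Exact Γ ΦR := fun y => by rw [← Subtype.val_inj]; exact hexΓ y
  have hsurjR : Function.Surjective ΦR := LinearMap.surjective_rangeRestrict Φ
  have h1 := Module.length_eq_add_of_exact (P := ↥(LinearMap.range Φ)) Γ ΦR hΓ hsurjR hexR
  have h2 := Module.length_eq_add_of_exact (N := ↥(LinearMap.range Φ)) (LinearMap.range Φ).subtype (LinearMap.range Φ).mkQ
    (Submodule.subtype_injective _) (Submodule.mkQ_surjective _) (LinearMap.exact_subtype_mkQ _)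
  have hfin : ∀ L : Ideal R, q ≤ L → colen L < ⊤ := fun L hL => lt_of_le_of_lt (colen_mono hL) (colen_q_lt_top P N)
  obtain ⟨ℓ, hℓ⟩ := ENat.ne_top_iff_exists.1 hJ.ne
  obtain ⟨i, hi⟩ := ENat.ne_top_iff_exists.1 (hfin I hI).ne
  obtain ⟨ij, hij⟩ := ENat.ne_top_iff_exists.1 (hfin (I.colon (J : Set R))
    (fun d hd => mem_colon'.2 fun k _ => I.mul_mem_right k (hI hd))).ne
  obtain ⟨c, hc⟩ := ENat.ne_top_iff_exists.1 (hfin C hqC).ne
  obtain ⟨kk, hkk⟩ := ENat.ne_top_iff_exists.1 (hfin K le_sup_right).ne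
  obtain ⟨n, hn⟩ := ENat.ne_top_iff_exists.1 (colen_q_lt_top P N).ne
  rw [← hℓ] at hF hG
  have hFfin : Module.length R F' ≠ ⊤ := by rw [hF, ← Nat.cast_mul]; exact ENat.coe_ne_top _
  have hGfin : Module.length R G' ≠ ⊤ := by rw [hG, ← Nat.cast_mul]; exact ENat.coe_ne_top _
  obtain ⟨a, ha⟩ := ENat.ne_top_iff_exists.1 (fun h => hFfin (h1.trans (by rw [h, top_add])) :
    Module.length R (I →ₗ[R] R ⧸ J) ≠ ⊤)
  obtain ⟨b, hb⟩ := ENat.ne_top_iff_exists.1 (fun h => hGfin (h2.trans (by rw [h, top_add])) :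
    Module.length R (LinearMap.range Φ) ≠ ⊤)
  obtain ⟨d, hd⟩ := ENat.ne_top_iff_exists.1 (fun h => hGfin (h2.trans (by rw [h, add_top])) :
    Module.length R Q ≠ ⊤)
  rw [hF, ← ha, ← hb] at h1
  rw [hG, ← hb, ← hd] at h2
  rw [← hd, ← hc, ← hkk] at hQ
  rw [← hC, ← hc, ← hi, ← hn] at e1
  rw [← hij, ← hkk, ← hn] at e2
  rw [← ha, ← hij, ← hℓ, ← hi]
  norm_cast at *
  subst hr
  rw [Nat.succ_mul] at h1
  omega

end Core

section Final

open CategoryTheory

variable {R : Type u} [CommRing R] [IsRegularLocalRing R]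

theorem exists_pair (hdim : ringKrullDim R = 2) : Nonempty (Pair R) := by
  obtain ⟨rs, hlen, hreg, hgen⟩ := Groth.L04.exists_regular_generators (R := R) (d := 2) (by exact_mod_cast hdim)
  obtain ⟨x, y, rfl⟩ := List.length_eq_two.1 hlen
  have h := hreg.toIsWeaklyRegular
  rw [RingTheory.Sequence.isWeaklyRegular_cons_iff, RingTheory.Sequence.isWeaklyRegular_cons_iff] at h
  obtain ⟨hx, hy, -⟩ := h
  refine ⟨⟨x, y, ?_, fun r hr => hx (by simpa using hr), fun r hr => ?_⟩⟩
  · rw [← hgen]; simp [Ideal.ofList_cons]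
  · have hmem : ∀ s, s ∈ Ideal.span {x} ↔ s ∈ x • (⊤ : Submodule R R) := fun s => by
      rw [Ideal.mem_span_singleton', Submodule.mem_smul_pointwise_iff_exists]
      simp [eq_comm, mul_comm]
    rw [hmem] at hr ⊢
    rw [← Submodule.Quotient.mk_eq_zero] at hr ⊢
    exact hy (show y • Submodule.Quotient.mk (p := (x • ⊤ : Submodule R R)) r = y • (0 : QuotSMulTop x R) by
      rw [smul_zero, ← Submodule.Quotient.mk_smul, smul_eq_mul]; exact hr)

theorem projective_ker (hdim : ringKrullDim R = 2) (I : Ideal R) {m : ℕ} (g : (Fin m → R) →ₗ[R] I)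
    (hg : Function.Surjective g) : Module.Projective R (LinearMap.ker g) := by
  have hpd : HasProjectiveDimensionLT (ModuleCat.of R (R ⧸ I)) 3 :=
    Groth.L04.hasProjectiveDimensionLE_of_regularLocal (d := 2) (by exact_mod_cast hdim) _
  have hπ : Function.Surjective (Submodule.mkQ I) := Submodule.mkQ_surjective I
  have hS := LinearMap.shortExact_shortComplexKer hπ
  have hI : HasProjectiveDimensionLT (ModuleCat.of R (LinearMap.ker (Submodule.mkQ I))) 2 :=
    (hS.hasProjectiveDimensionLT_X₃_iff 1 (ModuleCat.projective_of_categoryTheory_projective (R := R) (ModuleCat.of R R))).1 hpd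
  let g' : (Fin m → R) →ₗ[R] LinearMap.ker (Submodule.mkQ I) :=
    (LinearEquiv.ofEq _ _ (Submodule.ker_mkQ I).symm).toLinearMap ∘ₗ g
  have hg' : Function.Surjective g' := by
    intro y; obtain ⟨z, hz⟩ := hg ((LinearEquiv.ofEq _ _ (Submodule.ker_mkQ I).symm).symm y)
    exact ⟨z, Subtype.ext (congrArg (fun t : I => (t : R)) hz)⟩
  have hS' := LinearMap.shortExact_shortComplexKer hg'
  have h1 : HasProjectiveDimensionLT (ModuleCat.of R (LinearMap.ker g')) 1 :=
    (hS'.hasProjectiveDimensionLT_X₃_iff 0 (ModuleCat.projective_of_categoryTheory_projective (R := R) (ModuleCat.of R (Fin m → R)))).1 hI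
  have hker : LinearMap.ker g' = LinearMap.ker g := LinearEquiv.ker_comp _ _
  rw [← hker]
  haveI : Projective (ModuleCat.of R (LinearMap.ker g')) := projective_iff_hasProjectiveDimensionLT_one.2 h1
  exact (IsProjective.iff_projective (R := R) _).2 inferInstance

theorem length_hom_add (hdim : ringKrullDim R = 2) (I J : Ideal R)
    (hI : Module.length R (R ⧸ I) < ⊤) (hJ : Module.length R (R ⧸ J) < ⊤) :
    Module.length R (↥I →ₗ[R] (R ⧸ J)) + Module.length R (R ⧸ I.colon J) =
      Module.length R (R ⧸ J) + Module.length R (R ⧸ I) := by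
  haveI := Groth.L01.isDomain_of_regular R
  obtain ⟨P⟩ := exists_pair (R := R) hdim
  by_cases htop : I = ⊤
  · subst htop
    have h0 : Module.length R (R ⧸ (⊤ : Ideal R)) = 0 :=
      Module.length_eq_zero_iff.2 (Submodule.Quotient.subsingleton_iff.2 rfl)
    have h1 : (⊤ : Ideal R).colon (J : Set R) = ⊤ := top_unique fun c _ => mem_colon'.2 fun k _ => trivial
    rw [h1, h0]
    simp only [add_zero]
    exact (LinearEquiv.congrLeft (R ⧸ J) R (Submodule.topEquiv : (⊤ : Ideal R) ≃ₗ[R] R) ≪≫ₗ
      LinearMap.ringLmapEquivSelf R R (R ⧸ J)).length_eq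
  have hfl : IsFiniteLength R (R ⧸ I) := Module.length_ne_top_iff.1 hI.ne
  haveI := (isFiniteLength_iff_isNoetherian_isArtinian.1 hfl).2
  haveI : IsArtinianRing (R ⧸ I) := isArtinian_of_tower R ‹_›
  obtain ⟨n, hn⟩ := exists_maximalIdeal_pow_le_of_isArtinianRing_quotient I
  have hxm : ∀ {a}, a ∈ ({P.x, P.y} : Set R) → a ^ (n + 1) ∈ I := fun {a} ha => hn (Ideal.pow_le_pow_right (Nat.le_succ n)
    (Ideal.pow_mem_pow (by rw [P.span_eq, ← Ideal.span_union, Set.singleton_union]; exact Ideal.subset_span ha) _))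
  have hqI : P.q n.succ ≤ I := sup_le ((Ideal.span_singleton_le_iff_mem _).2 (hxm (by simp)))
    ((Ideal.span_singleton_le_iff_mem _).2 (hxm (by simp)))
  obtain ⟨m, g, hg⟩ := Module.Finite.exists_fin' R I
  haveI := projective_ker hdim I g hg
  haveI : Module.Free R (LinearMap.ker g) := Module.free_of_flat_of_isLocalRing
  let r := Module.finrank R (LinearMap.ker g)
  let e : (Fin r → R) ≃ₗ[R] LinearMap.ker g := (Module.finBasis R (LinearMap.ker g)).equivFun.symm
  let φ : (Fin r → R) →ₗ[R] (Fin m → R) := (LinearMap.ker g).subtype ∘ₗ e.toLinearMap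
  let g₀ : (Fin m → R) →ₗ[R] R := I.subtype ∘ₗ g
  have hφ : Function.Injective φ := (Submodule.subtype_injective _).comp e.injective
  have hex : LinearMap.range φ = LinearMap.ker g₀ := by
    rw [LinearMap.range_comp_of_range_eq_top _ (LinearEquiv.range e), Submodule.range_subtype,
      LinearMap.ker_comp_of_ker_eq_bot _ (Submodule.ker_subtype I)]
  have hr : r + 1 = m := by
    have h1 := Submodule.finrank_quotient_add_finrank (LinearMap.ker g)
    rw [(g.quotKerEquivOfSurjective hg).finrank_eq, Module.finrank_fin_fun] at h1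
    have hne : I ≠ ⊥ := fun h => by
      have h2 : P.x ^ (n + 1) = 0 := by simpa [h] using hxm (a := P.x) (by simp)
      exact one_ne_zero (x_cancel P (n + 1) (r := (1 : R)) (s := 0) (by rw [h2, zero_mul, zero_mul]))
    have h3 : Module.finrank R I = 1 := by
      obtain ⟨z, hz, hz0⟩ := Submodule.exists_mem_ne_zero_of_ne_bot hne
      refine le_antisymm ((Submodule.finrank_le I).trans_eq (Module.finrank_self R)) ?_
      have hinj : Function.Injective (LinearMap.toSpanSingleton R I ⟨z, hz⟩) := fun a b h => by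
        have := congrArg Subtype.val h
        simpa [hz0] using this
      exact (Module.finrank_self R).symm.le.trans (LinearMap.finrank_le_finrank_of_injective hinj)
    omega
  obtain ⟨u, hu⟩ := hg ⟨_, hxm (a := P.x) (by simp)⟩
  obtain ⟨v, hv⟩ := hg ⟨_, hxm (a := P.y) (by simp)⟩
  have hu' : g₀ u = P.x ^ (n + 1) := congrArg Subtype.val hu
  have hv' : g₀ v = P.y ^ (n + 1) := congrArg Subtype.val hv
  obtain ⟨w, hw⟩ := exists_lift g₀ φ hex (z := P.y ^ (n + 1) • u - P.x ^ (n + 1) • v)
    (by rw [map_sub, map_smul, map_smul, hu', hv', smul_eq_mul, smul_eq_mul, mul_comm, sub_self])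
  have hrange : (LinearMap.range g₀ : Ideal R) = I := by
    rw [LinearMap.range_comp_of_range_eq_top _ (LinearMap.range_eq_top.2 hg), Submodule.range_subtype]
  have h := length_hom P n hφ hex J hu' hv' hw (hrange.symm ▸ hqI) hr hJ
  rwa [hrange] at h

end Final

end Groth.L13.RegTwo
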